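import Groth.Agent.TorusLift.Rank
import Groth.Agent.TorusLift.Central
import Groth.Agent.RedOpen.Near
import Groth.Agent.RedOpen.Main
import Groth.Agent.S3002

/-!
# The locus where a subtorus is maximal in a reductive fibre of semisimple rank one
-/

set_option autoImplicit false
set_option linter.style.haveILetI false
set_option backward.isDefEq.respectTransparency false
set_option maxHeartbeats 1000000
set_option synthInstance.maxHeartbeats 400000

universe u

open CategoryTheory Limits MonoidalCategory CartesianMonoidalCategory MonObj GrpObj AlgebraicGeometry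
open scoped CategoryTheory.Obj

noncomputable section

namespace Groth.Agent.RkOne

open Groth.Agent.MTBridge Groth.Agent.Chev

variable {S : Scheme.{u}} {G T : Over S} [GrpObj G] [GrpObj T] [IsAffineHom G.hom] [Smooth G.hom]

/-- Near a reductive fibre the fibres are reductive, and a subtorus maximal there stays maximal. -/
theorem exists_nhd_maximalTorus (hconn : ∀ s : S, _root_.IsConnected (G.hom.base ⁻¹' {s})) (i : T ⟶ G) [IsMonHom i]
    (hi : IsClosedImmersion i.left) (hT : Red.IsTorus T) (s : S)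
    (hs : Red.IsReductiveOver (AlgebraicClosure (S.residueField s)) (Red.geomFibre s G))
    (hmax : Red.IsMaximalTorus ((Over.pullback (Red.geomPt s)).map i)) :
    ∃ U : S.Opens, s ∈ U ∧ ∀ t ∈ U, Red.IsReductiveOver (AlgebraicClosure (S.residueField t)) (Red.geomFibre t G) ∧
      Red.IsMaximalTorus ((Over.pullback (Red.geomPt t)).map i) ∧
      topologicalKrullDim ↥(Red.geomFibre t G).left = topologicalKrullDim ↥(Red.geomFibre s G).left ∧
      topologicalKrullDim ↥(Red.geomFibre t T).left = topologicalKrullDim ↥(Red.geomFibre s T).left := by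
  haveI := hi
  haveI : Mono i.left := inferInstance
  haveI : Mono i := Over.mono_of_mono_left i
  have hMT := isMultTypeFT_of_isTorus T hT
  haveI := locallyOfFinitePresentation_of_isMultTypeFT T hMT
  haveI := flat_of_isMultTypeFT T hMT
  obtain ⟨A, _, u, hu, ⟨a₀, ha₀⟩, hred, B, _, v, hv, hvs, TB, _, iB, hiB, r, ⟨eB⟩⟩ := S3002.result S G hconn s hs
  haveI := hu; haveI := hvs
  haveI := locallyOfFinitePresentation_of_isMultTypeFT _ (MTTorus.isMultTypeFT_DS S (Fin r → ℤ))
  haveI := flat_of_isMultTypeFT _ (MTTorus.isMultTypeFT_DS S (Fin r → ℤ))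
  -- maximal tori over the points of the chart have dimension `r`
  have hrank : ∀ t ∈ Set.range u.base, SGA3x.HasRedRank G t
      (topologicalKrullDim ↥((Red.DS S (Fin r → ℤ)).hom ⁻¹' {t})) := by
    rintro _ ⟨a, rfl⟩
    obtain ⟨b, rfl⟩ := Scheme.Hom.surjective v a
    let y : Spec (CommRingCat.of (AlgebraicClosure ((Spec (CommRingCat.of B)).residueField b))) ⟶ S :=
      Red.geomPt b ≫ v ≫ u
    have hy : y (IsLocalRing.closedPoint _) = u (v b) := by
      rw [Scheme.Hom.comp_apply, MTImage.geomPt_closedPoint, Scheme.Hom.comp_apply]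
    let iK := (Over.pullback (Red.geomPt b)).map iB
    haveI := hiB.1; haveI := hiB.2.1
    haveI : PreservesLimitsOfShape WalkingCospan (Over.pullback (Red.geomPt b)) :=
      (Adjunction.rightAdjoint_preservesLimits (Over.mapPullbackAdj (Red.geomPt b))).preservesLimitsOfShape
    have hTK : Red.IsTorus (Red.bc (Red.geomPt b) TB) := Borel.isTorus_bc_scheme TB _ hiB.2.2.1
    have hmax₁ : AGF.IsMaxTorus iK :=
      ⟨inferInstance, inferInstance, hTK, fun T' _ j _ _ f hT' hf => hiB.2.2.2 b T' j f hT' hf⟩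
    let eG : Red.bc (Red.geomPt b) (Red.bc (v ≫ u) G) ≅ Red.bc y G :=
      ((Grp.forget _).mapIso (bcComp (v ≫ u) (Red.geomPt b) G)).symm
    haveI : IsMonHom eG.hom := (bcComp (v ≫ u) (Red.geomPt b) G).inv.hom.isMonHom_hom
    haveI : IsMonHom (Iso.refl (Red.bc (Red.geomPt b) TB)).hom := inferInstanceAs (IsMonHom (𝟙 _))
    have hmax' : Red.IsMaximalTorus (iK ≫ eG.hom) :=
      MTImage.isMaximalTorus_iso (Iso.refl _) eG iK (iK ≫ eG.hom) (by rw [Iso.refl_hom, Category.id_comp]) hTK
        (Borel.isMaximalTorus_of_isMaxTorus _ hmax₁)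
    obtain ⟨T', _, i', hi', hdim⟩ := TorusLift.exists_maxTorus_of_point y _ hmax' (Red.geomPt (u (v b)))
      (hy.trans (MTImage.geomPt_closedPoint _).symm)
    refine ⟨T', inferInstance, i', hi', ?_⟩
    rw [← hdim, TorusLift.dim_eq_of_grpIso (show Grp.mk (Red.bc (Red.geomPt b) TB) ≅
        Grp.mk (Red.DS _ (Fin r → ℤ)) from (bcMapIso (Red.geomPt b) eB) ≪≫ bcDS (Red.geomPt b) (Fin r → ℤ)),
      MTImage.dim_DS_point y r, hy]
  let dG := fun t : S => topologicalKrullDim ↥(G.hom ⁻¹' {t})
  let dT := fun t : S => topologicalKrullDim ↥(T.hom ⁻¹' {t})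
  let dD := fun t : S => topologicalKrullDim ↥((Red.DS S (Fin r → ℤ)).hom ⁻¹' {t})
  obtain ⟨U₁, hU₁, hsU₁, hd₁⟩ := (IsLocallyConstant.iff_exists_open dG).1 (GrpDim.isLocallyConstant_dim G) s
  obtain ⟨U₂, hU₂, hsU₂, hd₂⟩ := (IsLocallyConstant.iff_exists_open dT).1 (GrpDim.isLocallyConstant_dim T) s
  obtain ⟨U₃, hU₃, hsU₃, hd₃⟩ := (IsLocallyConstant.iff_exists_open dD).1
    (GrpDim.isLocallyConstant_dim (Red.DS S (Fin r → ℤ))) s
  refine ⟨u.opensRange ⊓ ⟨U₁, hU₁⟩ ⊓ ⟨U₂, hU₂⟩ ⊓ ⟨U₃, hU₃⟩, ⟨⟨⟨⟨a₀, ha₀⟩, hsU₁⟩, hsU₂⟩, hsU₃⟩,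
    fun t ⟨⟨⟨htu, ht₁⟩, ht₂⟩, ht₃⟩ => ?_⟩
  have hdimT : topologicalKrullDim ↥(Red.geomFibre t T).left = topologicalKrullDim ↥(Red.geomFibre s T).left := by
    rw [show topologicalKrullDim ↥(Red.geomFibre t T).left = dT t from MTImage.dim_geomFibre T t,
      show topologicalKrullDim ↥(Red.geomFibre s T).left = dT s from MTImage.dim_geomFibre T s, hd₂ t ht₂]
  have hdimG : topologicalKrullDim ↥(Red.geomFibre t G).left = topologicalKrullDim ↥(Red.geomFibre s G).left := by
    rw [show topologicalKrullDim ↥(Red.geomFibre t G).left = dG t from MTImage.dim_geomFibre G t,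
      show topologicalKrullDim ↥(Red.geomFibre s G).left = dG s from MTImage.dim_geomFibre G s, hd₁ t ht₁]
  -- the rank at `s` is the dimension of the given torus
  obtain ⟨T₀, _, i₀, hi₀, hdim₀⟩ := hrank s ⟨a₀, ha₀⟩
  have hrs : topologicalKrullDim ↥(Red.geomFibre s T).left = dD s := by
    haveI : Smooth (Red.geomFibre s G).hom := inferInstanceAs (Smooth (pullback.snd G.hom _))
    haveI : QuasiCompact (Red.geomFibre s G).hom := inferInstanceAs (QuasiCompact (pullback.snd G.hom _))
    exact (TorusLift.dim_maxTori_eq _ hmax i₀ hi₀).trans hdim₀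
  refine ⟨?_, ?_, hdimG, hdimT⟩
  · -- reductive
    haveI : IsAffineHom (Red.geomFibre t G).hom := inferInstanceAs (IsAffineHom (pullback.snd G.hom _))
    refine ⟨isAffine_of_isAffineHom (Red.geomFibre t G).hom, inferInstanceAs (Smooth (pullback.snd G.hom _)),
      TorusLift.connectedSpace_bc_geom hconn _, ?_⟩
    obtain ⟨a, rfl⟩ := htu
    refine (RedOpen.noUni_bc_iff G (Red.geomPt a ≫ u) (Red.geomPt (u a)) ?_).1
      ((RedOpen.noUni_iso_iff (bcComp u (Red.geomPt a) G).symm).1 (hred.2.2 a).2.2.2)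
    rw [Scheme.Hom.comp_apply, MTImage.geomPt_closedPoint, MTImage.geomPt_closedPoint]
  · -- maximal
    let τ := Red.geomPt t
    haveI : PreservesLimitsOfShape WalkingCospan (Over.pullback τ) :=
      (Adjunction.rightAdjoint_preservesLimits (Over.mapPullbackAdj τ)).preservesLimitsOfShape
    have hTt : Red.IsTorus (Red.bc τ T) := Borel.isTorus_bc_scheme T _ hT
    obtain ⟨T', _, i', f, hi', hf, hdim⟩ := TorusLift.dim_le_of_hasRedRank (hrank t htu) τ
      (MTImage.geomPt_closedPoint t) ((Over.pullback τ).map i) hTt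
    haveI := hi'.1; haveI := hi'.2.1
    haveI := locallyOfFiniteType_of_isTorus hi'.2.2.1
    haveI := isAffine_of_isTorus hi'.2.2.1
    haveI := isAffine_of_isTorus hTt
    haveI := smooth_of_isTorus hTt; haveI := connectedSpace_of_isTorus hTt
    haveI := smooth_of_isTorus hi'.2.2.1; haveI := connectedSpace_of_isTorus hi'.2.2.1
    haveI : IsMonHom f := MTSplit.isMonHom_of_comp_mono f i' _ hf
    haveI : Subsingleton ↥(Spec (CommRingCat.of (AlgebraicClosure (S.residueField t)))) :=
      inferInstanceAs (Subsingleton (PrimeSpectrum _))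
    haveI : Nonempty ↥(Spec (CommRingCat.of (AlgebraicClosure (S.residueField t)))) :=
      inferInstanceAs (Nonempty (PrimeSpectrum _))
    haveI : Mono f := by
      haveI : Mono (f ≫ i') := by rw [hf]; infer_instance
      exact mono_of_mono f i'
    haveI : IsClosedImmersion f.left := GrpField.isClosedImmersion_of_mono f
    haveI : IsIso f := Chev.isIso_of_dim_eq f (by
      rw [hdim, show topologicalKrullDim ↥(Red.bc τ T).left = _ from hdimT, hrs]
      exact (hd₃ t ht₃).symm)
    haveI : IsMonHom (asIso f).inv := by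
      haveI : IsMonHom (asIso f).hom := inferInstanceAs (IsMonHom f)
      infer_instance
    haveI : IsMonHom (asIso f).symm.hom := inferInstanceAs (IsMonHom (asIso f).inv)
    haveI : IsMonHom (Iso.refl (Red.bc τ G)).hom := inferInstanceAs (IsMonHom (𝟙 _))
    exact MTImage.isMaximalTorus_iso (asIso f).symm (Iso.refl _) i' _
      (by rw [Iso.refl_hom, Category.comp_id, Iso.symm_hom, ← hf, asIso_inv, IsIso.inv_hom_id_assoc]) hTt hi'

end Groth.Agent.RkOne
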